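import Cfsg.Agent.H173.FC.Row

/-!
# S5764, L-C6, n = 2 (helper173): `StmtC6` in dimension 2
-/

set_option autoImplicit false

namespace Cfsg.Agent.H173.FC

open Quaternion Cfsg.Agent.H198.FC

universe u v

variable {K : Type u} [Field K] {V : Type v} [AddCommGroup V] [Module K V]

theorem central [Module.Finite K V] (hV : Module.finrank K V = 2) {x : R K V} (h : ∀ y : R K V, x * y = y * x) :
    ∃ c : K, x = c • (1 : R K V) := by
  let b : Module.Basis (Fin 2) K V := Module.finBasisOfFinrankEq K V hV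
  obtain ⟨a, ha⟩ := LinearMap.commute_transvections_iff_of_basis b (f := x) fun i j r _ => h _
  exact ⟨(a : K), ha⟩

theorem cj_eq_iff [Module.Finite K V] (hV : Module.finrank K V = 2) {x y : (R K V)ˣ} (h : cj K V x = cj K V y) :
    ∃ c : K, c ≠ 0 ∧ (x : R K V) = c • (y : R K V) := by
  have h1 : ∀ X : R K V, ((y⁻¹ * x : (R K V)ˣ) : R K V) * X = X * ((y⁻¹ * x : (R K V)ˣ) : R K V) := by
    intro X
    have h2 := DFunLike.congr_fun h X
    rw [cj_apply, cj_apply] at h2
    have h3 : (y⁻¹ : (R K V)ˣ) * ((x : R K V) * X * (x⁻¹ : (R K V)ˣ)) * x = (y⁻¹ : (R K V)ˣ) * ((y : R K V) * X * (y⁻¹ : (R K V)ˣ)) * x := by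
      rw [h2]
    rw [Units.val_mul]
    simpa [mul_assoc] using h3
  obtain ⟨c, hc⟩ := central hV h1
  have h2 : (x : R K V) = c • (y : R K V) := by
    have : (y : R K V) * ((y⁻¹ * x : (R K V)ˣ) : R K V) = y * (c • (1 : R K V)) := by rw [hc]
    rw [Units.val_mul, ← mul_assoc, Units.mul_inv, one_mul, mul_smul_comm, mul_one] at this
    exact this
  refine ⟨c, ?_, h2⟩
  rintro rfl
  rw [zero_smul] at h2
  have : Nontrivial V := Module.nontrivial_of_finrank_pos (R := K) (by omega)
  exact x.ne_zero h2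

theorem cj_smul {x y : (R K V)ˣ} {c : K} (hc : c ≠ 0) (h : (x : R K V) = c • (y : R K V)) : cj K V x = cj K V y := by
  have hi : ((x⁻¹ : (R K V)ˣ) : R K V) = c⁻¹ • ((y⁻¹ : (R K V)ˣ) : R K V) := by
    apply Units.inv_eq_of_mul_eq_one_right
    rw [h, smul_mul_smul_comm, mul_inv_cancel₀ hc, Units.mul_inv, one_smul]
  apply Equiv.ext
  intro X
  rw [cj_apply, cj_apply, h, hi, smul_mul_assoc, smul_mul_assoc, mul_smul_comm, smul_smul, mul_inv_cancel₀ hc, one_smul]

/-- conjugation of `cj x` by a ring automorphism -/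
theorem conj_cj {f : Equiv.Perm (R K V)} (hf : f ∈ RP K V) (x x' : (R K V)ˣ) (hx : (x' : R K V) = f (x : R K V)) :
    f * cj K V x * f⁻¹ = cj K V x' := by
  have hi : ((x'⁻¹ : (R K V)ˣ) : R K V) = f ((x⁻¹ : (R K V)ˣ) : R K V) := by
    rw [← Units.mul_right_inj x', Units.mul_inv, hx, ← hf.2, Units.mul_inv, rp_one hf]
  apply Equiv.ext
  intro X
  rw [Equiv.Perm.mul_apply, Equiv.Perm.mul_apply, cj_apply, cj_apply, hf.2, hf.2, hx, hi]
  congr 2
  exact Equiv.apply_symm_apply f X


/-- the data of the group `A` of order 4 -/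
structure Four (A : Subgroup (Equiv.Perm (R K V))) : Prop where
  le : A ≤ IN K V
  card : Nat.card A = 4
  sq : ∀ f ∈ A, f * f = 1
  comm : ∀ f ∈ A, ∀ g ∈ A, f * g = g * f
  span : Submodule.span K {X : R K V | ∃ x : (R K V)ˣ, (x : R K V) = X ∧ cj K V x ∈ A} = ⊤

theorem Four.cases {A : Subgroup (Equiv.Perm (R K V))} (D : Four A) {f g : Equiv.Perm (R K V)} (hf : f ∈ A)
    (hg : g ∈ A) (hf1 : f ≠ 1) (hg1 : g ≠ 1) (hfg : f ≠ g) : ∀ h ∈ A, h = 1 ∨ h = f ∨ h = g ∨ h = f * g := by
  classical
  intro h hh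
  have hfin : Finite A := Nat.finite_of_card_ne_zero (by rw [D.card]; norm_num)
  by_contra hne
  push Not at hne
  obtain ⟨n1, n2, n3, n4⟩ := hne
  have e1 : f * g ≠ 1 := by
    intro h'
    apply hfg
    have := D.sq f hf
    exact mul_left_cancel (this.trans h'.symm)
  have e2 : f * g ≠ f := fun h' => hg1 (mul_eq_left.1 h')
  have e3 : f * g ≠ g := fun h' => hf1 (mul_eq_right.1 h')
  let T : Finset (Equiv.Perm (R K V)) := {1, f, g, f * g, h}
  have hT : T.card = 5 := by
    have : T = insert 1 (insert f (insert g (insert (f * g) {h}))) := rfl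
    rw [this, Finset.card_insert_of_notMem, Finset.card_insert_of_notMem, Finset.card_insert_of_notMem,
      Finset.card_insert_of_notMem, Finset.card_singleton]
    · simp only [Finset.mem_singleton]
      exact fun h' => n4 h'.symm
    · simp only [Finset.mem_insert, Finset.mem_singleton, not_or]
      exact ⟨fun h' => e3 h'.symm, fun h' => n3 h'.symm⟩
    · simp only [Finset.mem_insert, Finset.mem_singleton, not_or]
      exact ⟨hfg, fun h' => e2 h'.symm, fun h' => n2 h'.symm⟩
    · simp only [Finset.mem_insert, Finset.mem_singleton, not_or]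
      exact ⟨fun h' => hf1 h'.symm, fun h' => hg1 h'.symm, fun h' => e1 h'.symm, fun h' => n1 h'.symm⟩
  have hsub : (T : Set (Equiv.Perm (R K V))) ⊆ (A : Set (Equiv.Perm (R K V))) := by
    intro k hk
    simp only [T, Finset.coe_insert, Finset.coe_singleton, Set.mem_insert_iff, Set.mem_singleton_iff] at hk
    rcases hk with rfl | rfl | rfl | rfl | rfl
    · exact one_mem _
    · exact hf
    · exact hg
    · exact mul_mem hf hg
    · exact hh
  have hc := Set.ncard_le_ncard hsub (Set.toFinite _)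
  rw [Set.ncard_coe_finset, hT] at hc
  have : (A : Set (Equiv.Perm (R K V))).ncard = 4 := by
    rw [← D.card]
    rfl
  omega

/-- lifts of different elements anticommute -/
theorem Four.anti [Module.Finite K V] (hV : Module.finrank K V = 2) {A : Subgroup (Equiv.Perm (R K V))} (D : Four A)
    {x y : (R K V)ˣ} (hf : cj K V x ∈ A) (hg : cj K V y ∈ A) (hf1 : cj K V x ≠ 1) (hg1 : cj K V y ≠ 1)
    (hfg : cj K V x ≠ cj K V y) : (x : R K V) * y = -((y : R K V) * x) ∧ (2 : K) ≠ 0 := by
  have hnt : Nontrivial V := Module.nontrivial_of_finrank_pos (R := K) (by omega)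
  have h1 : cj K V (x * y) = cj K V (y * x) := by
    rw [map_mul, map_mul, D.comm _ hf _ hg]
  obtain ⟨c, hc0, hc⟩ := cj_eq_iff hV h1
  rw [Units.val_mul, Units.val_mul] at hc
  have h2 : cj K V (x * x) = cj K V 1 := by rw [map_mul, D.sq _ hf, map_one]
  obtain ⟨α, hα0, hα⟩ := cj_eq_iff hV h2
  rw [Units.val_mul, Units.val_one] at hα
  have hc1 : c ≠ 1 := by
    rintro rfl
    rw [one_smul] at hc
    apply hf1
    -- `x` commutes with all lifts
    have hall : ∀ X : R K V, (x : R K V) * X = X * x := by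
      intro X
      have hX : X ∈ Submodule.span K {X : R K V | ∃ x : (R K V)ˣ, (x : R K V) = X ∧ cj K V x ∈ A} := by
        rw [D.span]
        trivial
      induction hX using Submodule.span_induction with
      | mem X hX =>
        obtain ⟨z, rfl, hz⟩ := hX
        have key : ∀ w : (R K V)ˣ, (x : R K V) * w = w * x → cj K V z = cj K V w → (x : R K V) * z = z * x := by
          intro w hw he
          obtain ⟨d, hd0, hd⟩ := cj_eq_iff hV he
          rw [hd, mul_smul_comm, smul_mul_assoc, hw]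
        rcases D.cases hf hg hf1 hg1 hfg _ hz with h | h | h | h
        · exact key 1 (by simp) (by rw [h, map_one])
        · exact key x rfl h
        · exact key y hc h
        · refine key (x * y) ?_ (by rw [h, map_mul])
          rw [Units.val_mul, mul_assoc, hc]
      | zero => simp
      | add a b _ _ ha hb => rw [mul_add, add_mul, ha, hb]
      | smul t a _ ha => rw [mul_smul_comm, smul_mul_assoc, ha]
    apply Equiv.ext
    intro X
    rw [cj_apply, hall X, mul_assoc, Units.mul_inv, mul_one]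
    rfl
  have hcc : c * c = 1 := by
    have e1 : (x : R K V) * (x * y) = (c * c) • ((y : R K V) * (x * x)) := by
      rw [hc, mul_smul_comm, ← mul_assoc, hc, smul_mul_assoc, smul_smul, mul_assoc]
    rw [← mul_assoc, hα, smul_mul_assoc, one_mul, mul_smul_comm, mul_one, smul_smul] at e1
    have e2 : (α - c * c * α) • (y : R K V) = 0 := by rw [sub_smul, ← e1, sub_self]
    rcases smul_eq_zero.1 e2 with h | h
    · have : α * (1 - c * c) = 0 := by linear_combination h
      rcases mul_eq_zero.1 this with h' | h'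
      · exact absurd h' hα0
      · exact (sub_eq_zero.1 h').symm
    · exact absurd h y.ne_zero
  have hcm : c = -1 := by
    have : (c - 1) * (c + 1) = 0 := by linear_combination hcc
    rcases mul_eq_zero.1 this with h' | h'
    · exact absurd (sub_eq_zero.1 h') hc1
    · exact eq_neg_of_add_eq_zero_left h'
  subst hcm
  refine ⟨by rw [hc, neg_smul, one_smul], fun h => hc1 ?_⟩
  linear_combination -h


theorem rp_neg_one {f : Equiv.Perm (R K V)} (hf : f ∈ RP K V) : f (-1) = -1 := by
  have h := hf.1 (-1) 1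
  rw [neg_add_cancel, rp_zero hf, rp_one hf] at h
  exact eq_neg_of_add_eq_zero_left h.symm

/-- the unit `f x` -/
def fu {f : Equiv.Perm (R K V)} (hf : f ∈ RP K V) (x : (R K V)ˣ) : (R K V)ˣ :=
  ⟨f x, f (x⁻¹ : (R K V)ˣ), by rw [← hf.2, Units.mul_inv, rp_one hf], by rw [← hf.2, Units.inv_mul, rp_one hf]⟩

theorem fu_val {f : Equiv.Perm (R K V)} (hf : f ∈ RP K V) (x : (R K V)ˣ) : ((fu hf x : (R K V)ˣ) : R K V) = f x := rfl

/-- every non-trivial element of `A` has a lift with square `-1` -/
theorem Four.exists_lift [Finite K] [Module.Finite K V] (hV : Module.finrank K V = 2) {A : Subgroup (Equiv.Perm (R K V))}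
    (D : Four A) {S : Subgroup (Equiv.Perm (R K V))} (hS : S ≤ RP K V) (hnorm : ∀ g ∈ S, ∀ f ∈ A, g * f * g⁻¹ ∈ A)
    (hmin : ∀ B : Subgroup (Equiv.Perm (R K V)), B ≤ A → (∀ g ∈ S, ∀ f ∈ B, g * f * g⁻¹ ∈ B) → B = ⊥ ∨ B = A) :
    ∀ f ∈ A, f ≠ 1 → ∃ x : (R K V)ˣ, cj K V x = f ∧ (x : R K V) * x = -1 := by
  classical
  have hnt : Nontrivial V := Module.nontrivial_of_finrank_pos (R := K) (by omega)
  let B : Subgroup (Equiv.Perm (R K V)) :=
    { carrier := {h | h ∈ A ∧ (h = 1 ∨ ∃ x : (R K V)ˣ, cj K V x = h ∧ (x : R K V) * x = -1)}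
      one_mem' := ⟨one_mem _, Or.inl rfl⟩
      inv_mem' := by
        rintro h ⟨hA, hh⟩
        have hi : h⁻¹ = h := by
          rw [inv_eq_iff_mul_eq_one]
          exact D.sq h hA
        change h⁻¹ ∈ A ∧ _
        rw [hi]
        exact ⟨hA, hh⟩
      mul_mem' := by
        rintro f g ⟨hf, hf'⟩ ⟨hg, hg'⟩
        refine ⟨mul_mem hf hg, ?_⟩
        by_cases hf1 : f = 1
        · rw [hf1, one_mul]
          exact hg'
        by_cases hg1 : g = 1
        · rw [hg1, mul_one]
          exact hf'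
        by_cases hfg : f = g
        · left
          rw [hfg]
          exact D.sq g hg
        right
        obtain ⟨x, rfl, hx⟩ := hf'.resolve_left hf1
        obtain ⟨y, rfl, hy⟩ := hg'.resolve_left hg1
        obtain ⟨ha, _⟩ := D.anti hV hf hg hf1 hg1 hfg
        refine ⟨x * y, map_mul _ _ _, ?_⟩
        rw [Units.val_mul]
        have ha' : (y : R K V) * x = -((x : R K V) * y) := by rw [ha, neg_neg]
        calc (x : R K V) * y * (x * y) = x * (y * x) * y := by simp only [mul_assoc]
          _ = -1 := by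
            rw [ha', mul_neg, ← mul_assoc, hx]
            simp only [neg_mul, one_mul, neg_neg]
            exact hy }
  have hBA : B ≤ A := fun h hh => hh.1
  have hBn : ∀ g ∈ S, ∀ f ∈ B, g * f * g⁻¹ ∈ B := by
    rintro g hg f ⟨hf, hf'⟩
    refine ⟨hnorm g hg f hf, ?_⟩
    rcases hf' with rfl | ⟨x, rfl, hx⟩
    · left
      rw [mul_one, mul_inv_cancel]
    · right
      refine ⟨fu (hS hg) x, (conj_cj (hS hg) x _ (fu_val _ _)).symm, ?_⟩
      rw [fu_val, ← (hS hg).2, hx, rp_neg_one (hS hg)]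
  rcases hmin B hBA hBn with hB | hB
  · exfalso
    -- two elements
    have hfin : Finite A := Nat.finite_of_card_ne_zero (by rw [D.card]; norm_num)
    have h1 : ∃ f ∈ A, f ≠ 1 := by
      by_contra hne
      push Not at hne
      have : A = ⊥ := (Subgroup.eq_bot_iff_forall A).2 hne
      have h2 := D.card
      rw [this, Subgroup.card_bot] at h2
      omega
    obtain ⟨f, hf, hf1⟩ := h1
    have h2 : ∃ g ∈ A, g ≠ 1 ∧ g ≠ f := by
      by_contra hne
      push Not at hne
      have hsub : (A : Set (Equiv.Perm (R K V))) ⊆ {1, f} := by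
        intro g hg
        by_cases hg1 : g = 1
        · exact Or.inl hg1
        · exact Or.inr (hne g hg hg1)
      have hc := Set.ncard_le_ncard hsub (Set.toFinite _)
      have h3 : (A : Set (Equiv.Perm (R K V))).ncard = 4 := by
        rw [← D.card]
        rfl
      have h4 := Set.ncard_insert_le 1 ({f} : Set (Equiv.Perm (R K V)))
      rw [Set.ncard_singleton] at h4
      omega
    obtain ⟨g, hg, hg1, hgf⟩ := h2
    obtain ⟨x, rfl⟩ := D.le hf
    obtain ⟨y, rfl⟩ := D.le hg
    obtain ⟨ha, h2⟩ := D.anti hV hf hg hf1 hg1 hgf.symm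
    have hno : ∀ z : (R K V)ˣ, cj K V z ∈ A → cj K V z ≠ 1 → ∀ c : K, (z : R K V) * z = c • (1 : R K V) → ¬ IsSquare (-c) := by
      rintro z hz hz1 c hc ⟨s, hs⟩
      have hs0 : s ≠ 0 := by
        rintro rfl
        rw [mul_zero] at hs
        rw [neg_eq_zero.1 hs, zero_smul] at hc
        exact (z * z).ne_zero (by rw [Units.val_mul]; exact hc)
      have hzz : (z : R K V) = s • (s⁻¹ • (z : R K V)) := by rw [smul_smul, mul_inv_cancel₀ hs0, one_smul]
      let w : (R K V)ˣ := ⟨s⁻¹ • (z : R K V), s • ((z⁻¹ : (R K V)ˣ) : R K V), by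
        rw [smul_mul_smul_comm, inv_mul_cancel₀ hs0, Units.mul_inv, one_smul], by
        rw [smul_mul_smul_comm, mul_inv_cancel₀ hs0, Units.inv_mul, one_smul]⟩
      have hw : cj K V z = cj K V w := cj_smul hs0 hzz
      have hB' : cj K V z ∈ B := by
        refine ⟨hz, Or.inr ⟨w, hw.symm, ?_⟩⟩
        change (s⁻¹ • (z : R K V)) * (s⁻¹ • (z : R K V)) = -1
        rw [smul_mul_smul_comm, hc, smul_smul]
        have : s⁻¹ * s⁻¹ * c = -1 := by
          have : c = -(s * s) := by rw [← hs, neg_neg]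
          rw [this]
          field_simp
        rw [this, neg_smul, one_smul]
      rw [hB] at hB'
      exact hz1 (Subgroup.mem_bot.1 hB')
    have hsq : ∀ z : (R K V)ˣ, cj K V z ∈ A → ∃ c : K, c ≠ 0 ∧ (z : R K V) * z = c • (1 : R K V) := by
      intro z hz
      have h3 : cj K V (z * z) = cj K V 1 := by rw [map_mul, D.sq _ hz, map_one]
      obtain ⟨c, hc0, hc⟩ := cj_eq_iff hV h3
      exact ⟨c, hc0, by rw [← Units.val_mul, hc, Units.val_one]⟩
    obtain ⟨α, hα0, hα⟩ := hsq x hf
    obtain ⟨β, hβ0, hβ⟩ := hsq y hg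
    have hxy : ((x * y : (R K V)ˣ) : R K V) * ((x * y : (R K V)ˣ) : R K V) = (-(α * β)) • (1 : R K V) := by
      have ha' : (y : R K V) * x = -((x : R K V) * y) := by rw [ha, neg_neg]
      rw [Units.val_mul]
      calc (x : R K V) * y * (x * y) = x * (y * x) * y := by simp only [mul_assoc]
        _ = _ := by
          rw [ha', mul_neg, ← mul_assoc, hα, smul_mul_assoc, one_mul, neg_mul, smul_mul_assoc, hβ, smul_smul, neg_smul]
    have hxyA : cj K V (x * y) ∈ A := by
      rw [map_mul]
      exact mul_mem hf hg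
    have hxy1 : cj K V (x * y) ≠ 1 := by
      rw [map_mul]
      intro h'
      exact hgf (mul_left_cancel ((D.sq _ hf).trans h'.symm)).symm
    have n1 := hno x hf hf1 α hα
    have n2 := hno y hg hg1 β hβ
    have n3 := hno (x * y) hxyA hxy1 _ hxy
    rw [neg_neg] at n3
    have : Fintype K := Fintype.ofFinite K
    rw [← quadraticChar_neg_one_iff_not_isSquare] at n1 n2 n3
    have h5 : quadraticChar K (α * β) = quadraticChar K (-α) * quadraticChar K (-β) := by
      rw [← map_mul, neg_mul_neg]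
    rw [n1, n2, n3] at h5
    norm_num at h5
  · intro f hf hf1
    rw [← hB] at hf
    exact hf.2.resolve_left hf1


/-- `i`, `j` generate a quaternion algebra -/
theorem exists_e [Finite K] [Module.Finite K V] (hV : Module.finrank K V = 2) {A : Subgroup (Equiv.Perm (R K V))}
    (D : Four A) {x y : (R K V)ˣ} (hf : cj K V x ∈ A) (hg : cj K V y ∈ A) (hf1 : cj K V x ≠ 1) (hg1 : cj K V y ≠ 1)
    (hfg : cj K V x ≠ cj K V y) (hx : (x : R K V) * x = -1) (hy : (y : R K V) * y = -1) :
    ∃ e : ℍ[K] ≃ₐ[K] R K V, e qI = x ∧ e qJ = y ∧ e qK = x * y := by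
  obtain ⟨ha, h2⟩ := D.anti hV hf hg hf1 hg1 hfg
  let q : QuaternionAlgebra.Basis (R K V) (-1 : K) 0 (-1) :=
    { i := x
      j := y
      k := x * y
      i_mul_i := by rw [hx, zero_smul, add_zero, neg_smul, one_smul]
      j_mul_j := by rw [hy, neg_smul, one_smul]
      i_mul_j := rfl
      j_mul_i := by rw [ha, zero_smul, zero_sub, neg_neg] }
  let φ : ℍ[K] →ₐ[K] R K V := q.liftHom
  have hφ : ∀ z : ℍ[K], φ z = algebraMap K _ z.re + z.imI • (x : R K V) + z.imJ • (y : R K V) + z.imK • ((x : R K V) * y) :=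
    fun z => rfl
  have hI : φ qI = x := by rw [hφ]; simp [qI]
  have hJ : φ qJ = y := by rw [hφ]; simp [qJ]
  have hK : φ qK = x * y := by rw [hφ]; simp [qK]
  have hsurj : Function.Surjective φ.toLinearMap := by
    rw [← LinearMap.range_eq_top, eq_top_iff, ← D.span, Submodule.span_le]
    rintro X ⟨z, rfl, hz⟩
    have key : ∀ (w : (R K V)ˣ) (z' : ℍ[K]), φ z' = w → cj K V z = cj K V w → (z : R K V) ∈ LinearMap.range φ.toLinearMap := by
      intro w z' hw he
      obtain ⟨c, hc0, hc⟩ := cj_eq_iff hV he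
      refine ⟨c • z', ?_⟩
      rw [AlgHom.toLinearMap_apply, map_smul, hw, hc]
    rcases D.cases hf hg hf1 hg1 hfg _ hz with h | h | h | h
    · exact key 1 1 (by rw [map_one, Units.val_one]) (by rw [h, map_one])
    · exact key x qI hI h
    · exact key y qJ hJ h
    · exact key (x * y) qK hK (by rw [h, map_mul])
  have hdim : Module.finrank K ℍ[K] = Module.finrank K (R K V) := by
    rw [Quaternion.finrank_eq_four, Module.finrank_linearMap, hV]
  have hinj : Function.Injective φ.toLinearMap :=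
    (LinearMap.injective_iff_surjective_of_finrank_eq_finrank hdim).2 hsurj
  exact ⟨AlgEquiv.ofBijective φ ⟨hinj, hsurj⟩, hI, hJ, hK⟩

theorem ctx [Finite K] [Module.Finite K V] (hV : Module.finrank K V = 2) {A : Subgroup (Equiv.Perm (R K V))}
    (D : Four A) {S : Subgroup (Equiv.Perm (R K V))} (hS : S ≤ RP K V) (hnorm : ∀ g ∈ S, ∀ f ∈ A, g * f * g⁻¹ ∈ A)
    (hmin : ∀ B : Subgroup (Equiv.Perm (R K V)), B ≤ A → (∀ g ∈ S, ∀ f ∈ B, g * f * g⁻¹ ∈ B) → B = ⊥ ∨ B = A) :
    (2 : K) ≠ 0 ∧ ∃ e : ℍ[K] ≃ₐ[K] R K V, Ctx e S := by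
  have hnt : Nontrivial V := Module.nontrivial_of_finrank_pos (R := K) (by omega)
  have hfin : Finite A := Nat.finite_of_card_ne_zero (by rw [D.card]; norm_num)
  have h1 : ∃ f ∈ A, f ≠ 1 := by
    by_contra hne
    push Not at hne
    have : A = ⊥ := (Subgroup.eq_bot_iff_forall A).2 hne
    have h2 := D.card
    rw [this, Subgroup.card_bot] at h2
    omega
  obtain ⟨f, hf, hf1⟩ := h1
  have h2 : ∃ g ∈ A, g ≠ 1 ∧ f ≠ g := by
    by_contra hne
    push Not at hne
    have hsub : (A : Set (Equiv.Perm (R K V))) ⊆ {1, f} := by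
      intro g hg
      by_cases hg1 : g = 1
      · exact Or.inl hg1
      · exact Or.inr (hne g hg hg1).symm
    have hc := Set.ncard_le_ncard hsub (Set.toFinite _)
    have h3 : (A : Set (Equiv.Perm (R K V))).ncard = 4 := by
      rw [← D.card]
      rfl
    have h4 := Set.ncard_insert_le 1 ({f} : Set (Equiv.Perm (R K V)))
    rw [Set.ncard_singleton] at h4
    omega
  obtain ⟨g, hg, hg1, hfg⟩ := h2
  obtain ⟨x, rfl, hx⟩ := D.exists_lift hV hS hnorm hmin f hf hf1
  obtain ⟨y, rfl, hy⟩ := D.exists_lift hV hS hnorm hmin g hg hg1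
  obtain ⟨ha, h2⟩ := D.anti hV hf hg hf1 hg1 hfg
  obtain ⟨e, hI, hJ, hK⟩ := exists_e hV D hf hg hf1 hg1 hfg hx hy
  refine ⟨h2, e, hS, ?_⟩
  have hxy1 : cj K V (x * y) ≠ 1 := by
    rw [map_mul]
    intro h'
    exact hfg (mul_left_cancel ((D.sq _ hf).trans h'.symm))
  have hxy : ((x * y : (R K V)ˣ) : R K V) * ((x * y : (R K V)ˣ) : R K V) = -1 := by
    have ha' : (y : R K V) * x = -((x : R K V) * y) := by rw [ha, neg_neg]
    rw [Units.val_mul]
    calc (x : R K V) * y * (x * y) = x * (y * x) * y := by simp only [mul_assoc]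
      _ = -1 := by
        rw [ha', mul_neg, ← mul_assoc, hx]
        simp only [neg_mul, one_mul, neg_neg]
        exact hy
  -- the general step
  have key : ∀ k ∈ S, ∀ u : (R K V)ˣ, cj K V u ∈ A → cj K V u ≠ 1 → (u : R K V) * u = -1 → IsQ (e.symm (k (u : R K V))) := by
    intro k hk u hu hu1 huu
    have h3 : cj K V (fu (hS hk) u) ∈ A := by
      rw [← conj_cj (hS hk) u _ (fu_val _ _)]
      exact hnorm k hk _ hu
    have h4 : cj K V (fu (hS hk) u) ≠ 1 := by
      rw [← conj_cj (hS hk) u _ (fu_val _ _)]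
      intro h'
      apply hu1
      rw [mul_inv_eq_one, mul_eq_left] at h'
      exact h'
    have h5 : k (u : R K V) * k (u : R K V) = -1 := by
      rw [← (hS hk).2, huu, rp_neg_one (hS hk)]
    have fin : ∀ (w : (R K V)ˣ) (v : ℍ[K]), e v = w → (w : R K V) * w = -1 →
        (v = qI ∨ v = qJ ∨ v = qK) → cj K V (fu (hS hk) u) = cj K V w → IsQ (e.symm (k (u : R K V))) := by
      intro w v hw hww hv he
      obtain ⟨c, hc0, hc⟩ := cj_eq_iff hV he
      rw [fu_val] at hc
      rw [hc, smul_mul_smul_comm, hww] at h5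
      have h6 : c ^ 2 = 1 := by
        have h7 : (c * c - 1) • (1 : R K V) = 0 := by
          rw [sub_smul, one_smul, sub_eq_zero]
          rw [smul_neg, neg_inj] at h5
          exact h5
        rcases smul_eq_zero.1 h7 with h | h
        · linear_combination h
        · exact absurd h one_ne_zero
      have h8 : e.symm (k (u : R K V)) = c • v := by
        rw [hc, map_smul, ← hw, AlgEquiv.symm_apply_apply]
      rw [h8]
      rcases hv with rfl | rfl | rfl
      · exact ⟨by simp [qI], Or.inl ⟨by simpa [qI] using h6, by simp [qI], by simp [qI]⟩⟩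
      · exact ⟨by simp [qJ], Or.inr (Or.inl ⟨by simp [qJ], by simpa [qJ] using h6, by simp [qJ]⟩)⟩
      · exact ⟨by simp [qK], Or.inr (Or.inr ⟨by simp [qK], by simp [qK], by simpa [qK] using h6⟩)⟩
    rcases D.cases hf hg hf1 hg1 hfg _ h3 with h | h | h | h
    · exact absurd h h4
    · exact fin x qI hI hx (Or.inl rfl) h
    · exact fin y qJ hJ hy (Or.inr (Or.inl rfl)) h
    · exact fin (x * y) qK hK hxy (Or.inr (Or.inr rfl)) (by rw [h, map_mul])
  intro k hk v hv
  rcases hv with rfl | rfl | rfl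
  · rw [hI]
    exact key k hk x hf hf1 hx
  · rw [hJ]
    exact key k hk y hg hg1 hy
  · rw [hK, ← Units.val_mul]
    refine key k hk (x * y) ?_ hxy1 hxy
    rw [map_mul]
    exact mul_mem hf hg

/-- **L-C6 in dimension 2** -/
theorem stmtC6_two (K : Type u) [Field K] [Finite K] (V : Type v) [AddCommGroup V] [Module K V] [Module.Finite K V]
    (S : Subgroup (Equiv.Perm (R K V))) (hV : Module.finrank K V = 2) (hS : S ≤ RP K V) (hq : 4 ≤ Nat.card K)
    (A : Subgroup (Equiv.Perm (R K V))) (r a : ℕ) (hC : C6Data S A r a) : Five S := by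
  obtain ⟨hr, ha, hn, hAS, hAI, hcard, hexp, hcomm, hspan, hnorm, hmin⟩ := hC
  rw [hV] at hn
  have hr2 : r = 2 := (Nat.prime_dvd_prime_iff_eq hr Nat.prime_two).1 (by rw [hn]; exact dvd_pow_self r (by omega))
  subst hr2
  have ha1 : a = 1 := by
    have : 2 ^ 1 = 2 ^ a := by rw [← hn, pow_one]
    exact (Nat.pow_right_injective le_rfl this).symm
  subst ha1
  have D : Four A :=
    { le := hAI
      card := hcard
      sq := fun f hf => by rw [← pow_two]; exact hexp f hf
      comm := hcomm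
      span := hspan }
  obtain ⟨h2, e, C⟩ := ctx hV D hS hnorm hmin
  obtain ⟨p, hp⟩ := CharP.exists K
  have hpp : p.Prime := CharP.char_is_prime K p
  have hpf : Fact p.Prime := ⟨hpp⟩
  by_cases hP : ∀ a : K, a ∈ PF (K := K) p
  · refine five_prime hV p C h2 ?_ hP
    intro h3
    -- `|K| ≤ p`
    have hle : Nat.card K ≤ p := by
      have hs : Function.Surjective (ZMod.castHom (dvd_refl p) K) := fun a => by
        have := hP a
        unfold PF at this
        exact RingHom.mem_fieldRange.1 this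
      have := Nat.card_le_card_of_surjective _ hs
      rwa [Nat.card_zmod] at this
    have hp3 : p ∣ 3 := (CharP.cast_eq_zero_iff K p 3).1 (by exact_mod_cast h3)
    have := Nat.le_of_dvd (by norm_num) hp3
    omega
  · push Not at hP
    obtain ⟨a, ha⟩ := hP
    obtain ⟨g, hg⟩ := IsCyclic.exists_generator (α := Kˣ)
    have hgen : ∀ a : K, a ≠ 0 → ∃ n : ℕ, a = (g : K) ^ n := by
      intro a ha0
      have h3 := hg (Units.mk0 a ha0)
      rw [← mem_powers_iff_mem_zpowers] at h3
      obtain ⟨n, hn⟩ := h3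
      refine ⟨n, ?_⟩
      have := congrArg (Units.val) hn
      simpa using this.symm
    refine five_big hV p C h2 (γ := (g : K)) ?_ hgen
    intro hgP
    apply ha
    rcases eq_or_ne a 0 with rfl | ha0
    · exact zero_mem _
    · obtain ⟨n, rfl⟩ := hgen a ha0
      exact pow_mem hgP n

/-- **L-C6 in dimension 2**, in the form of `StmtC6` -/
theorem stmtC6_two' : ∀ (K : Type u) [Field K] [Finite K] (V : Type v) [AddCommGroup V] [Module K V] [Module.Finite K V]
    (S : Subgroup (Equiv.Perm (R K V))), S ≤ RA K V → (Module.finrank K V = 2 → S ≤ RP K V ∧ 4 ≤ Nat.card K) →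
    Group.IsSolvable S →
    ∀ (A : Subgroup (Equiv.Perm (R K V))) (r a : ℕ), C6Data S A r a → Module.finrank K V = 2 → Five S :=
  fun K _ _ V _ _ _ S _ h _ A r a hC hV => stmtC6_two K V S hV (h hV).1 (h hV).2 A r a hC

end Cfsg.Agent.H173.FC
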