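import Cfsg.Agent.H173.FC.C6Two
import Cfsg.Agent.H786.FC.Parts

/-! # S5764 (helper173): the C6 case in dimension 2, in the form of the hub -/

set_option autoImplicit false

namespace Cfsg.Agent.H173.FC

universe u v

theorem stmtC6On_two : Cfsg.Agent.H786.FC.StmtC6On.{u, v} (fun n => n = 2) :=
  fun K _ _ V _ _ _ S hS h hs A r a hC hV => stmtC6_two'.{u, v} K V S hS h hs A r a hC hV

end Cfsg.Agent.H173.FC
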