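import Mathlib

/-!
# S5764, L-C6, n = 2 (helper173): quaternions

`IsQ z` : `z ∈ {±i, ±j, ±k}`.  `Fr F` : the ring endomorphism `F` of `ℍ[K]` maps `i, j, k` into this set.
* `rigid_big` : `K` not prime, four elements of norm 1 such that only `F = 1` satisfies `Fr` for `F` and the four conjugates;
* the prime case is prepared by `not_isQ`.
-/

set_option autoImplicit false

namespace Cfsg.Agent.H173.FC

open Quaternion

variable {K : Type*} [Field K]

/-- quaternion with given coordinates -/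
def q4 (a b c d : K) : ℍ[K] := ⟨a, b, c, d⟩

@[simp] theorem q4_re (a b c d : K) : (q4 a b c d).re = a := rfl
@[simp] theorem q4_imI (a b c d : K) : (q4 a b c d).imI = b := rfl
@[simp] theorem q4_imJ (a b c d : K) : (q4 a b c d).imJ = c := rfl
@[simp] theorem q4_imK (a b c d : K) : (q4 a b c d).imK = d := rfl

/-- `z ∈ {±i, ±j, ±k}` -/
def IsQ (z : ℍ[K]) : Prop :=
  z.re = 0 ∧ ((z.imI ^ 2 = 1 ∧ z.imJ = 0 ∧ z.imK = 0) ∨ (z.imI = 0 ∧ z.imJ ^ 2 = 1 ∧ z.imK = 0) ∨
    (z.imI = 0 ∧ z.imJ = 0 ∧ z.imK ^ 2 = 1))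

/-- `i`, `j`, `k` -/
def qI : ℍ[K] := q4 0 1 0 0
def qJ : ℍ[K] := q4 0 0 1 0
def qK : ℍ[K] := q4 0 0 0 1

/-- `F` permutes the six elements -/
structure Fr (F : ℍ[K] →+* ℍ[K]) : Prop where
  i : IsQ (F qI)
  j : IsQ (F qJ)
  k : IsQ (F qK)

/-- the conjugate of `F` by `x` (of norm 1) permutes the six elements -/
def FrC (F : ℍ[K] →+* ℍ[K]) (x : ℍ[K]) : Prop :=
  ∀ v : ℍ[K], (v = qI ∨ v = qJ ∨ v = qK) → IsQ (x * F (star x * v * x) * star x)

theorem ns_eq (x : ℍ[K]) : normSq x = x.re ^ 2 + x.imI ^ 2 + x.imJ ^ 2 + x.imK ^ 2 := normSq_def' x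

theorem mul_star_one {x : ℍ[K]} (h : normSq x = 1) : x * star x = 1 := by
  rw [self_mul_star, h]
  rfl

theorem star_mul_one {x : ℍ[K]} (h : normSq x = 1) : star x * x = 1 := by
  rw [star_mul_self, h]
  rfl

/-- the conjugate -/
def cF (F : ℍ[K] →+* ℍ[K]) (x : ℍ[K]) (h : normSq x = 1) : ℍ[K] →+* ℍ[K] where
  toFun z := x * F (star x * z * x) * star x
  map_one' := by
    rw [mul_one, star_mul_one h, map_one, mul_one, mul_star_one h]
  map_mul' a b := by
    have h1 : star x * (a * b) * x = star x * a * x * (star x * b * x) := by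
      calc star x * (a * b) * x = star x * a * 1 * b * x := by rw [mul_one, ← mul_assoc]
        _ = star x * a * (x * star x) * b * x := by rw [mul_star_one h]
        _ = star x * a * x * (star x * b * x) := by simp only [mul_assoc]
    have h2 : x * F (star x * (a * b) * x) * star x =
        x * F (star x * a * x) * 1 * F (star x * b * x) * star x := by
      rw [h1, map_mul, mul_one]
      simp only [mul_assoc]
    rw [h2, ← star_mul_one h]
    simp only [mul_assoc]
  map_zero' := by simp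
  map_add' a b := by
    rw [mul_add, add_mul, map_add, mul_add, add_mul]

theorem cF_apply (F : ℍ[K] →+* ℍ[K]) (x : ℍ[K]) (h : normSq x = 1) (z : ℍ[K]) :
    cF F x h z = x * F (star x * z * x) * star x := rfl

theorem Fr.of (F : ℍ[K] →+* ℍ[K]) (x : ℍ[K]) (h : normSq x = 1) (hF : FrC F x) : Fr (cF F x h) :=
  ⟨hF _ (Or.inl rfl), hF _ (Or.inr (Or.inl rfl)), hF _ (Or.inr (Or.inr rfl))⟩

/-! ### the prime field -/

section P
variable (p : ℕ) [Fact p.Prime] [CharP K p]

/-- the prime field -/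
def PF : Subfield K := (ZMod.castHom (dvd_refl p) K).fieldRange

theorem mem_PF {a : K} : a ∈ PF (K := K) p ↔ ∃ n : ℤ, (n : K) = a := by
  unfold PF
  rw [RingHom.mem_fieldRange]
  constructor
  · rintro ⟨x, rfl⟩
    obtain ⟨n, rfl⟩ := ZMod.intCast_surjective x
    exact ⟨n, by rw [map_intCast]⟩
  · rintro ⟨n, rfl⟩
    exact ⟨(n : ZMod p), by rw [map_intCast]⟩

theorem exists_sq (K : Type*) [Field K] [CharP K p] : ∃ m n : ℤ, (m : K) ^ 2 + (n : K) ^ 2 + 1 = 0 := by
  obtain ⟨a, b, h⟩ := ZMod.sq_add_sq p (-1)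
  obtain ⟨m, rfl⟩ := ZMod.intCast_surjective a
  obtain ⟨n, rfl⟩ := ZMod.intCast_surjective b
  refine ⟨m, n, ?_⟩
  have h1 := congrArg (ZMod.castHom (dvd_refl p) K) h
  rw [map_add, map_pow, map_pow, map_intCast, map_intCast, map_neg, map_one] at h1
  rw [h1]
  ring

/-- all coordinates in the prime field -/
def R0 (z : ℍ[K]) : Prop := z.re ∈ PF (K := K) p ∧ z.imI ∈ PF (K := K) p ∧ z.imJ ∈ PF (K := K) p ∧ z.imK ∈ PF (K := K) p

variable {p}

theorem IsQ.sq {a : K} (h : a ^ 2 = 1) : a ∈ PF (K := K) p := by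
  have h1 : (a - 1) * (a + 1) = 0 := by linear_combination h
  rcases mul_eq_zero.1 h1 with h2 | h2
  · rw [sub_eq_zero.1 h2]
    exact one_mem _
  · rw [eq_neg_of_add_eq_zero_left h2]
    exact neg_mem (one_mem _)

theorem IsQ.R0 {z : ℍ[K]} (h : IsQ z) : R0 p z := by
  obtain ⟨h0, ⟨h1, h2, h3⟩ | ⟨h1, h2, h3⟩ | ⟨h1, h2, h3⟩⟩ := h
  · exact ⟨by rw [h0]; exact zero_mem _, IsQ.sq h1, by rw [h2]; exact zero_mem _, by rw [h3]; exact zero_mem _⟩
  · exact ⟨by rw [h0]; exact zero_mem _, by rw [h1]; exact zero_mem _, IsQ.sq h2, by rw [h3]; exact zero_mem _⟩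
  · exact ⟨by rw [h0]; exact zero_mem _, by rw [h1]; exact zero_mem _, by rw [h2]; exact zero_mem _, IsQ.sq h3⟩

theorem R0.add {z w : ℍ[K]} (hz : R0 p z) (hw : R0 p w) : R0 p (z + w) :=
  ⟨add_mem hz.1 hw.1, add_mem hz.2.1 hw.2.1, add_mem hz.2.2.1 hw.2.2.1, add_mem hz.2.2.2 hw.2.2.2⟩

theorem R0.int (n : ℤ) : R0 p ((n : ℤ) : ℍ[K]) := by
  refine ⟨?_, ?_, ?_, ?_⟩ <;> simp [zero_mem]

theorem R0.intmul (n : ℤ) {z : ℍ[K]} (hz : R0 p z) : R0 p ((n : ℍ[K]) * z) := by
  have hn : (n : K) ∈ PF (K := K) p := intCast_mem _ n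
  refine ⟨?_, ?_, ?_, ?_⟩ <;> simp only [re_mul, imI_mul, imJ_mul, imK_mul, re_intCast, imI_intCast, imJ_intCast,
    imK_intCast, zero_mul, sub_zero, add_zero]
  · exact mul_mem hn hz.1
  · exact mul_mem hn hz.2.1
  · exact mul_mem hn hz.2.2.1
  · exact mul_mem hn hz.2.2.2

theorem exists_int {z : ℍ[K]} (hz : R0 p z) : ∃ a b c d : ℤ, z = (a : ℍ[K]) + (b : ℍ[K]) * qI + (c : ℍ[K]) * qJ + (d : ℍ[K]) * qK := by
  obtain ⟨h0, h1, h2, h3⟩ := hz
  obtain ⟨a, ha⟩ := (mem_PF p).1 h0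
  obtain ⟨b, hb⟩ := (mem_PF p).1 h1
  obtain ⟨c, hc⟩ := (mem_PF p).1 h2
  obtain ⟨d, hd⟩ := (mem_PF p).1 h3
  refine ⟨a, b, c, d, ?_⟩
  ext <;> simp [qI, qJ, qK, ha, hb, hc, hd]

theorem Fr.R0 {F : ℍ[K] →+* ℍ[K]} (hF : Fr F) {z : ℍ[K]} (hz : R0 p z) : R0 p (F z) := by
  obtain ⟨a, b, c, d, rfl⟩ := exists_int hz
  simp only [map_add, map_mul, map_intCast]
  exact (((R0.int a).add (R0.intmul b hF.i.R0)).add (R0.intmul c hF.j.R0)).add (R0.intmul d hF.k.R0)

end P


/-! ### non-prime fields -/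

section Big
variable {p : ℕ} [Fact p.Prime] [CharP K p]

theorem eq_zero_of_mul {γ v : K} (hγ : γ ∉ PF (K := K) p) (hv : v ∈ PF (K := K) p) (h : γ * v ∈ PF (K := K) p) : v = 0 := by
  by_contra h0
  apply hγ
  have h1 : γ = γ * v * v⁻¹ := by field_simp
  rw [h1]
  exact mul_mem h (inv_mem hv)

/-- the unipotent element `1 + γ w` -/
def un (γ a b c : K) : ℍ[K] := q4 1 (γ * a) (γ * b) (γ * c)

theorem un_ns {γ a b c : K} (h : a ^ 2 + b ^ 2 + c ^ 2 = 0) : normSq (un γ a b c) = 1 := by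
  rw [ns_eq]
  simp only [un, q4_re, q4_imI, q4_imJ, q4_imK]
  linear_combination γ ^ 2 * h

/-- an isotropic vector over the prime field is mapped to a multiple of itself -/
theorem eps (h2 : (2 : K) ≠ 0) {F : ℍ[K] →+* ℍ[K]} (hF : Fr F) {γ α β : K} (hγ : γ ∉ PF (K := K) p)
    (hα : α ∈ PF (K := K) p) (hβ : β ∈ PF (K := K) p) (hw : (1 : K) ^ 2 + α ^ 2 + β ^ 2 = 0)
    (hx : FrC F (un γ 1 α β)) : ∃ b : K, F (q4 0 1 α β) = q4 0 b (b * α) (b * β) := by
  have h2P : (2 : K) ∈ PF (K := K) p := by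
    have := intCast_mem (PF (K := K) p) 2
    exact_mod_cast this
  have hwR : R0 p (q4 0 1 α β) := ⟨zero_mem _, one_mem _, hα, hβ⟩
  obtain ⟨w', hw'⟩ : ∃ w', F (q4 0 1 α β) = w' := ⟨_, rfl⟩
  have hR : R0 p w' := by rw [← hw']; exact hF.R0 hwR
  have hsq : w' * w' = 0 := by
    rw [← hw', ← map_mul]
    have : (q4 0 1 α β : ℍ[K]) * q4 0 1 α β = 0 := by
      ext <;> simp <;> ring_nf
      linear_combination -hw
    rw [this, map_zero]
  obtain ⟨a, b, c, d, rfl⟩ : ∃ a b c d : K, w' = q4 a b c d := ⟨w'.re, w'.imI, w'.imJ, w'.imK, rfl⟩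
  have e0 := congrArg QuaternionAlgebra.re hsq
  have e1 := congrArg QuaternionAlgebra.imI hsq
  have e2 := congrArg QuaternionAlgebra.imJ hsq
  have e3 := congrArg QuaternionAlgebra.imK hsq
  simp only [re_mul, imI_mul, imJ_mul, imK_mul, re_zero, imI_zero, imJ_zero, imK_zero, q4_re, q4_imI, q4_imJ, q4_imK] at e0 e1 e2 e3
  obtain ⟨ha', hb', hc', hd'⟩ := hR
  simp only [q4_re, q4_imI, q4_imJ, q4_imK] at ha' hb' hc' hd'
  have ha : a = 0 := by
    by_contra h
    have hb : b = 0 := by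
      have : a * (2 * b) = 0 := by linear_combination e1
      rcases mul_eq_zero.1 this with h' | h'
      · exact absurd h' h
      · exact (mul_eq_zero.1 h').resolve_left h2
    have hc : c = 0 := by
      have : a * (2 * c) = 0 := by linear_combination e2
      rcases mul_eq_zero.1 this with h' | h'
      · exact absurd h' h
      · exact (mul_eq_zero.1 h').resolve_left h2
    have hd : d = 0 := by
      have : a * (2 * d) = 0 := by linear_combination e3
      rcases mul_eq_zero.1 this with h' | h'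
      · exact absurd h' h
      · exact (mul_eq_zero.1 h').resolve_left h2
    subst hb hc hd
    apply h
    have : a * a = 0 := by linear_combination e0
    simpa using this
  subst ha
  have hns : normSq (un γ 1 α β) = 1 := un_ns hw
  have hG := (Fr.of F _ hns hx).R0 hwR
  rw [cF_apply] at hG
  have hfix : star (un γ 1 α β) * q4 0 1 α β * un γ 1 α β = q4 0 1 α β := by
    ext <;> simp [un]
    · ring
    · linear_combination (γ ^ 2) * hw
    · linear_combination (γ ^ 2 * α) * hw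
    · linear_combination (γ ^ 2 * β) * hw
  rw [hfix, hw'] at hG
  obtain ⟨_, g1, g2, g3⟩ := hG
  have k1 : (un γ 1 α β * q4 0 b c d * star (un γ 1 α β)).imI =
      b + 2 * γ * (α * d - β * c) + 2 * γ ^ 2 * (b + α * c + β * d) := by
    simp [un]
    linear_combination (-γ ^ 2 * b) * hw
  have k2 : (un γ 1 α β * q4 0 b c d * star (un γ 1 α β)).imJ =
      c + 2 * γ * (β * b - d) + 2 * γ ^ 2 * (b + α * c + β * d) * α := by
    simp [un]
    linear_combination (-γ ^ 2 * c) * hw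
  have k3 : (un γ 1 α β * q4 0 b c d * star (un γ 1 α β)).imK =
      d + 2 * γ * (c - α * b) + 2 * γ ^ 2 * (b + α * c + β * d) * β := by
    simp [un]
    linear_combination (-γ ^ 2 * d) * hw
  rw [k1] at g1
  rw [k2] at g2
  rw [k3] at g3
  -- elimination of `γ²`
  have m2 : γ * (2 * ((β * b - d) - α * (α * d - β * c))) ∈ PF (K := K) p := by
    have h := sub_mem (sub_mem g2 (mul_mem hα g1)) (sub_mem hc' (mul_mem hα hb'))
    have e : c + 2 * γ * (β * b - d) + 2 * γ ^ 2 * (b + α * c + β * d) * α -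
      α * (b + 2 * γ * (α * d - β * c) + 2 * γ ^ 2 * (b + α * c + β * d)) - (c - α * b) =
      γ * (2 * ((β * b - d) - α * (α * d - β * c))) := by ring
    rwa [e] at h
  have m3 : γ * (2 * ((c - α * b) - β * (α * d - β * c))) ∈ PF (K := K) p := by
    have h := sub_mem (sub_mem g3 (mul_mem hβ g1)) (sub_mem hd' (mul_mem hβ hb'))
    have e : d + 2 * γ * (c - α * b) + 2 * γ ^ 2 * (b + α * c + β * d) * β -
      β * (b + 2 * γ * (α * d - β * c) + 2 * γ ^ 2 * (b + α * c + β * d)) - (d - β * b) =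
      γ * (2 * ((c - α * b) - β * (α * d - β * c))) := by ring
    rwa [e] at h
  have n2 := (mul_eq_zero.1 (eq_zero_of_mul hγ (mul_mem h2P (sub_mem (sub_mem (mul_mem hβ hb') hd')
    (mul_mem hα (sub_mem (mul_mem hα hd') (mul_mem hβ hc'))))) m2)).resolve_left h2
  have n3 := (mul_eq_zero.1 (eq_zero_of_mul hγ (mul_mem h2P (sub_mem (sub_mem hc' (mul_mem hα hb'))
    (mul_mem hβ (sub_mem (mul_mem hα hd') (mul_mem hβ hc'))))) m3)).resolve_left h2
  have hD : b + α * c + β * d = 0 := by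
    linear_combination b * hw - β * n2 + α * n3
  have g1' : γ * (2 * (α * d - β * c)) ∈ PF (K := K) p := by
    have h := sub_mem g1 hb'
    have e : b + 2 * γ * (α * d - β * c) + 2 * γ ^ 2 * (b + α * c + β * d) - b = γ * (2 * (α * d - β * c)) := by
      rw [hD]
      ring
    rwa [e] at h
  have n1 := (mul_eq_zero.1 (eq_zero_of_mul hγ (mul_mem h2P (sub_mem (mul_mem hα hd') (mul_mem hβ hc'))) g1')).resolve_left h2
  refine ⟨b, ?_⟩
  rw [hw']
  ext
  · rfl
  · rfl
  · change c = b * α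
    linear_combination n3 + β * n1
  · change d = b * β
    linear_combination -n2 - α * n1


/-- the scalars -/
theorem coe_of_comm (h2 : (2 : K) ≠ 0) {z : ℍ[K]} (hi : z * qI = qI * z) (hj : z * qJ = qJ * z) :
    z = ((z.re : K) : ℍ[K]) := by
  have a2 := congrArg QuaternionAlgebra.imJ hi
  have a3 := congrArg QuaternionAlgebra.imK hi
  have b3 := congrArg QuaternionAlgebra.imK hj
  simp only [imJ_mul, imK_mul, qI, qJ, q4_re, q4_imI, q4_imJ, q4_imK] at a2 a3 b3
  have k1 : z.imK = 0 := by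
    have : 2 * z.imK = 0 := by linear_combination a2
    exact (mul_eq_zero.1 this).resolve_left h2
  have k2 : z.imJ = 0 := by
    have : 2 * z.imJ = 0 := by linear_combination -a3
    exact (mul_eq_zero.1 this).resolve_left h2
  have k3 : z.imI = 0 := by
    have : 2 * z.imI = 0 := by linear_combination b3
    exact (mul_eq_zero.1 this).resolve_left h2
  ext
  · rfl
  · exact k3
  · exact k2
  · exact k1

theorem delta (h2 : (2 : K) ≠ 0) {F : ℍ[K] →+* ℍ[K]} {c c' : K} {m n : ℤ}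
    (hw : (1 : K) ^ 2 + (m : K) ^ 2 + (n : K) ^ 2 = 0) (hI : F qI = qI) (hJ : F qJ = qJ) (hK : F qK = qK)
    (hc : F (c : ℍ[K]) = (c' : ℍ[K])) (hx : FrC F (un c 1 (m : K) (n : K))) : c - c' ∈ PF (K := K) p := by
  have hmP : (m : K) ∈ PF (K := K) p := intCast_mem _ m
  have hnP : (n : K) ∈ PF (K := K) p := intCast_mem _ n
  have h4P : (4 : K) ∈ PF (K := K) p := by
    have := intCast_mem (PF (K := K) p) 4
    exact_mod_cast this
  have h4 : (4 : K) ≠ 0 := by
    have : (4 : K) = 2 * 2 := by norm_num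
    rw [this]
    exact mul_ne_zero h2 h2
  have e : ∀ t : K, (un t 1 (m : K) (n : K) : ℍ[K]) = 1 + (t : ℍ[K]) * (qI + (m : ℍ[K]) * qJ + (n : ℍ[K]) * qK) := by
    intro t
    ext <;> simp [un, qI, qJ, qK]
  have es : star (un c 1 (m : K) (n : K)) = 1 - (c : ℍ[K]) * (qI + (m : ℍ[K]) * qJ + (n : ℍ[K]) * qK) := by
    ext <;> simp [un, qI, qJ, qK]
  have es' : star (un c' 1 (m : K) (n : K)) = 1 - (c' : ℍ[K]) * (qI + (m : ℍ[K]) * qJ + (n : ℍ[K]) * qK) := by
    ext <;> simp [un, qI, qJ, qK]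
  have f1 : F (un c 1 (m : K) (n : K)) = un c' 1 (m : K) (n : K) := by
    rw [e, e]
    simp only [map_add, map_mul, map_one, map_intCast, hI, hJ, hK, hc]
  have f2 : F (star (un c 1 (m : K) (n : K))) = star (un c' 1 (m : K) (n : K)) := by
    rw [es, es']
    simp only [map_sub, map_add, map_mul, map_one, map_intCast, hI, hJ, hK, hc]
  have hu : (q4 0 1 (-(m : K)) (-(n : K)) : ℍ[K]) = qI - (m : ℍ[K]) * qJ - (n : ℍ[K]) * qK := by
    ext <;> simp [qI, qJ, qK]
  have f3 : F (q4 0 1 (-(m : K)) (-(n : K))) = q4 0 1 (-(m : K)) (-(n : K)) := by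
    rw [hu]
    simp only [map_sub, map_mul, map_intCast, hI, hJ, hK]
  have huR : R0 p (q4 0 1 (-(m : K)) (-(n : K)) : ℍ[K]) := ⟨zero_mem _, one_mem _, neg_mem hmP, neg_mem hnP⟩
  have hG := (Fr.of F _ (un_ns hw) hx).R0 huR
  rw [cF_apply, map_mul, map_mul, f1, f2, f3] at hG
  clear f1 f2 f3 hu es es' e hx
  generalize (m : K) = α at *
  generalize (n : K) = β at *
  have hy : un c 1 α β * star (un c' 1 α β) = un (c - c') 1 α β := by
    ext <;> simp [un]
    · linear_combination (c * c') * hw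
    · ring
    · ring
    · ring
  have hy' : un c' 1 α β * star (un c 1 α β) = star (un (c - c') 1 α β) := by
    ext <;> simp [un]
    · linear_combination (c * c') * hw
    · ring
    · ring
    · ring
  have hy2 : un c 1 α β * (star (un c' 1 α β) * q4 0 1 (-α) (-β) * un c' 1 α β) * star (un c 1 α β) =
      un (c - c') 1 α β * q4 0 1 (-α) (-β) * star (un (c - c') 1 α β) := by
    rw [← hy', ← hy]
    simp only [mul_assoc]
  rw [hy2] at hG
  obtain ⟨_, g1, g2, g3⟩ := hG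
  have k1 : (un (c - c') 1 α β * q4 0 1 (-α) (-β) * star (un (c - c') 1 α β)).imI =
      1 + 4 * (c - c') ^ 2 := by
    simp [un]
    linear_combination (-3 * (c - c') ^ 2) * hw
  have k2 : (un (c - c') 1 α β * q4 0 1 (-α) (-β) * star (un (c - c') 1 α β)).imJ =
      -α + 4 * (c - c') * β + 4 * (c - c') ^ 2 * α := by
    simp [un]
    linear_combination (-(c - c') ^ 2 * α) * hw
  have k3 : (un (c - c') 1 α β * q4 0 1 (-α) (-β) * star (un (c - c') 1 α β)).imK =
      -β - 4 * (c - c') * α + 4 * (c - c') ^ 2 * β := by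
    simp [un]
    linear_combination (-(c - c') ^ 2 * β) * hw
  rw [k1] at g1
  rw [k2] at g2
  rw [k3] at g3
  have hd2 := sub_mem g1 (one_mem _)
  have m2 : 4 * (c - c') * β ∈ PF (K := K) p := by
    have h := add_mem (sub_mem g2 (mul_mem hd2 hmP)) hmP
    have e : -α + 4 * (c - c') * β + 4 * (c - c') ^ 2 * α - (1 + 4 * (c - c') ^ 2 - 1) * α + α =
      4 * (c - c') * β := by ring
    rwa [e] at h
  have m3 : 4 * (c - c') * α ∈ PF (K := K) p := by
    have h := sub_mem (sub_mem (mul_mem hd2 hnP) hnP) g3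
    have e : (1 + 4 * (c - c') ^ 2 - 1) * β - β - (-β - 4 * (c - c') * α + 4 * (c - c') ^ 2 * β) =
      4 * (c - c') * α := by ring
    rwa [e] at h
  have h := neg_mem (add_mem (mul_mem m3 hmP) (mul_mem m2 hnP))
  have e : -(4 * (c - c') * α * α + 4 * (c - c') * β * β) = 4 * (c - c') := by
    linear_combination (-4 * (c - c')) * hw
  rw [e] at h
  have h5 := mul_mem (inv_mem h4P) h
  rwa [inv_mul_cancel_left₀ h4] at h5


/-- **non-prime fields** -/
theorem rigid_big (h2 : (2 : K) ≠ 0) {γ : K} (hγ : γ ∉ PF (K := K) p) (hgen : ∀ a : K, a ≠ 0 → ∃ n : ℕ, a = γ ^ n) :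
    ∃ x : Fin 4 → ℍ[K], (∀ m, normSq (x m) = 1) ∧ ∀ F : ℍ[K] →+* ℍ[K], Fr F → (∀ m, FrC F (x m)) → ∀ z, F z = z := by
  obtain ⟨m, n, hmn⟩ := exists_sq p K
  have hmP : (m : K) ∈ PF (K := K) p := intCast_mem _ m
  have hnP : (n : K) ∈ PF (K := K) p := intCast_mem _ n
  have hw : (1 : K) ^ 2 + (m : K) ^ 2 + (n : K) ^ 2 = 0 := by linear_combination hmn
  have hw1 : (1 : K) ^ 2 + (-(m : K)) ^ 2 + (-(n : K)) ^ 2 = 0 := by linear_combination hmn
  have hw2 : (1 : K) ^ 2 + (n : K) ^ 2 + (-(m : K)) ^ 2 = 0 := by linear_combination hmn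
  refine ⟨![un γ 1 (m : K) (n : K), un γ 1 (-(m : K)) (-(n : K)), un γ 1 (n : K) (-(m : K)), un (γ ^ 2) 1 (m : K) (n : K)],
    ?_, ?_⟩
  · intro i
    fin_cases i
    · exact un_ns hw
    · exact un_ns hw1
    · exact un_ns hw2
    · exact un_ns hw
  intro F hF hx
  have hx0 : FrC F (un γ 1 (m : K) (n : K)) := hx 0
  have hx1 : FrC F (un γ 1 (-(m : K)) (-(n : K))) := hx 1
  have hx2 : FrC F (un γ 1 (n : K) (-(m : K))) := hx 2
  have hx3 : FrC F (un (γ ^ 2) 1 (m : K) (n : K)) := hx 3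
  obtain ⟨b, hb⟩ := eps h2 hF hγ hmP hnP hw hx0
  obtain ⟨b1, hb1⟩ := eps h2 hF hγ (neg_mem hmP) (neg_mem hnP) hw1 hx1
  obtain ⟨b2, hb2⟩ := eps h2 hF hγ hnP (neg_mem hmP) hw2 hx2
  have h4 : (4 : K) ≠ 0 := by
    have : (4 : K) = 2 * 2 := by norm_num
    rw [this]
    exact mul_ne_zero h2 h2
  obtain ⟨t4, ht4⟩ : ∃ t : ℤ, (t : K) = -4 := ⟨-4, by norm_num⟩
  obtain ⟨t2, ht2⟩ : ∃ t : ℤ, (t : K) = -2 := ⟨-2, by norm_num⟩
  obtain ⟨r2, hr2⟩ : ∃ t : ℤ, (t : K) = 2 := ⟨2, by norm_num⟩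
  -- the scalar products
  have s1 : b * b1 = 1 := by
    have e : (q4 0 1 (m : K) (n : K) * q4 0 1 (-(m : K)) (-(n : K)) + q4 0 1 (-(m : K)) (-(n : K)) * q4 0 1 (m : K) (n : K)
        : ℍ[K]) = (t4 : ℍ[K]) := by
      ext <;> simp [ht4] <;> ring_nf
      linear_combination 2 * hw
    have h := congrArg F e
    rw [map_add, map_mul, map_mul, hb, hb1, map_intCast] at h
    have h' := congrArg QuaternionAlgebra.re h
    simp [ht4] at h'
    have : 4 * (b * b1) = 4 * 1 := by linear_combination -h' + 2 * b * b1 * hw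
    exact mul_left_cancel₀ h4 this
  have s2 : b * b2 = 1 := by
    have e : (q4 0 1 (m : K) (n : K) * q4 0 1 (n : K) (-(m : K)) + q4 0 1 (n : K) (-(m : K)) * q4 0 1 (m : K) (n : K)
        : ℍ[K]) = (t2 : ℍ[K]) := by
      ext <;> simp [ht2] <;> ring_nf
    have h := congrArg F e
    rw [map_add, map_mul, map_mul, hb, hb2, map_intCast] at h
    have h' := congrArg QuaternionAlgebra.re h
    simp [ht2] at h'
    have : 2 * (b * b2) = 2 * 1 := by linear_combination -h'
    exact mul_left_cancel₀ h2 this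
  have s3 : b1 * b2 = 1 := by
    have e : (q4 0 1 (-(m : K)) (-(n : K)) * q4 0 1 (n : K) (-(m : K)) + q4 0 1 (n : K) (-(m : K)) *
        q4 0 1 (-(m : K)) (-(n : K)) : ℍ[K]) = (t2 : ℍ[K]) := by
      ext <;> simp [ht2] <;> ring_nf
    have h := congrArg F e
    rw [map_add, map_mul, map_mul, hb1, hb2, map_intCast] at h
    have h' := congrArg QuaternionAlgebra.re h
    simp [ht2] at h'
    have : 2 * (b1 * b2) = 2 * 1 := by linear_combination -h'
    exact mul_left_cancel₀ h2 this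
  have hb0 : b ≠ 0 := by
    rintro rfl
    rw [zero_mul] at s1
    exact zero_ne_one s1
  have e12 : b1 = b2 := mul_left_cancel₀ hb0 (s1.trans s2.symm)
  have e01 : b = b1 := by
    have : b2 * b = b2 * b1 := by rw [mul_comm, s2, mul_comm, s3]
    refine mul_left_cancel₀ ?_ this
    rintro rfl
    rw [mul_zero] at s2
    exact zero_ne_one s2
  subst e12
  subst e01
  -- the images of `i, j, k`
  have h2q : (r2 : ℍ[K]) * qI = q4 0 1 (m : K) (n : K) + q4 0 1 (-(m : K)) (-(n : K)) := by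
    ext <;> simp [qI, hr2] <;> norm_num
  have hI : F qI = q4 0 b 0 0 := by
    have h := congrArg F h2q
    rw [map_mul, map_add, map_intCast, hb, hb1] at h
    ext
    · have := congrArg QuaternionAlgebra.re h
      simp [hr2] at this
      rcases this with h' | h'
      · exact absurd h' h2
      · exact h'
    · have := congrArg QuaternionAlgebra.imI h
      simp [hr2] at this
      have h3 : 2 * (F qI).imI = 2 * b := by linear_combination this
      exact mul_left_cancel₀ h2 h3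
    · have := congrArg QuaternionAlgebra.imJ h
      simp [hr2] at this
      rcases this with h' | h'
      · exact absurd h' h2
      · exact h'
    · have := congrArg QuaternionAlgebra.imK h
      simp [hr2] at this
      rcases this with h' | h'
      · exact absurd h' h2
      · exact h'
  have hJ : F qJ = q4 0 0 b 0 := by
    have e : (qJ : ℍ[K]) = -((m : ℍ[K]) * (q4 0 1 (m : K) (n : K) - qI) + (n : ℍ[K]) * (q4 0 1 (n : K) (-(m : K)) - qI)) := by
      ext <;> simp [qI, qJ]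
      · linear_combination hmn
      · ring
    have h := congrArg F e
    rw [map_neg, map_add, map_mul, map_mul, map_intCast, map_intCast, map_sub, map_sub, hb, hb2, hI] at h
    rw [h]
    ext <;> simp
    · linear_combination (-b) * hmn
    · ring
  have hK : F qK = q4 0 0 0 b := by
    have e : (qK : ℍ[K]) = -((n : ℍ[K]) * (q4 0 1 (m : K) (n : K) - qI) - (m : ℍ[K]) * (q4 0 1 (n : K) (-(m : K)) - qI)) := by
      ext <;> simp [qI, qK]
      · ring
      · linear_combination hmn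
    have h := congrArg F e
    rw [map_neg, map_sub, map_mul, map_mul, map_intCast, map_intCast, map_sub, map_sub, hb, hb2, hI] at h
    rw [h]
    ext <;> simp
    · ring
    · linear_combination (-b) * hmn
  have hb1' : b = 1 := by
    have e : (qI : ℍ[K]) * qJ = qK := by
      ext <;> simp [qI, qJ, qK]
    have h := congrArg F e
    rw [map_mul, hI, hJ, hK] at h
    have h' := congrArg QuaternionAlgebra.imK h
    simp at h'
    exact mul_left_cancel₀ hb0 (h'.trans (mul_one b).symm)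
  subst hb1'
  have hI' : F qI = qI := hI
  have hJ' : F qJ = qJ := hJ
  have hK' : F qK = qK := hK
  -- the scalars
  have hsc : ∀ c : K, F (c : ℍ[K]) = (((F (c : ℍ[K])).re : K) : ℍ[K]) := by
    intro c
    apply coe_of_comm h2
    · have h := congrArg F (coe_commutes c (qI : ℍ[K]))
      rwa [map_mul, map_mul, hI'] at h
    · have h := congrArg F (coe_commutes c (qJ : ℍ[K]))
      rwa [map_mul, map_mul, hJ'] at h
  obtain ⟨γ', hγ'⟩ : ∃ γ' : K, F (γ : ℍ[K]) = (γ' : ℍ[K]) := ⟨_, hsc γ⟩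
  have d1 := delta h2 hw hI' hJ' hK' hγ' hx0
  have d2 := delta (c' := γ' ^ 2) h2 hw hI' hJ' hK' (by rw [coe_pow, map_pow, hγ', coe_pow]) hx3
  have hγγ : γ' = γ := by
    by_contra hne
    apply hγ
    have hd : γ - γ' ≠ 0 := fun h => hne (sub_eq_zero.1 h).symm
    have h2P : (2 : K) ∈ PF (K := K) p := by
      have := intCast_mem (PF (K := K) p) 2
      exact_mod_cast this
    have h := mul_mem (inv_mem h2P) (add_mem (mul_mem (inv_mem d1) d2) d1)
    have e : (2 : K)⁻¹ * ((γ - γ')⁻¹ * (γ ^ 2 - γ' ^ 2) + (γ - γ')) = γ := by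
      field_simp
      ring
    rwa [e] at h
  rw [hγγ] at hγ'
  have hall : ∀ c : K, F (c : ℍ[K]) = (c : ℍ[K]) := by
    intro c
    rcases eq_or_ne c 0 with rfl | hc
    · rw [coe_zero, map_zero]
    · obtain ⟨n, rfl⟩ := hgen c hc
      rw [coe_pow, map_pow, hγ']
  intro z
  have hz : z = (z.re : ℍ[K]) + (z.imI : ℍ[K]) * qI + (z.imJ : ℍ[K]) * qJ + (z.imK : ℍ[K]) * qK := by
    ext <;> simp [qI, qJ, qK]
  rw [hz]
  simp only [map_add, map_mul, hall, hI', hJ', hK']

end Big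

end Cfsg.Agent.H173.FC
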