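import Cfsg.Agent.H198.FC.Defs
import Cfsg.Agent.H173.FC.Quat

/-!
# S5764, L-C6, n = 2 (helper173): five conjugates, from the quaternion coordinates
-/

set_option autoImplicit false

namespace Cfsg.Agent.H173.FC

open Quaternion Cfsg.Agent.H198.FC

universe u v

variable {K : Type u} [Field K] {V : Type v} [AddCommGroup V] [Module K V]

/-- `S` permutes the three pairs `±i, ±j, ±k` -/
structure Ctx (e : ℍ[K] ≃ₐ[K] R K V) (S : Subgroup (Equiv.Perm (R K V))) : Prop where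
  rp : S ≤ RP K V
  q : ∀ f ∈ S, ∀ v : ℍ[K], (v = qI ∨ v = qJ ∨ v = qK) → IsQ (e.symm (f (e v)))

theorem rp_one {f : Equiv.Perm (R K V)} (hf : f ∈ RP K V) : f 1 = 1 := by
  obtain ⟨y, hy⟩ := f.surjective 1
  have h := hf.2 y 1
  rw [mul_one, hy, one_mul] at h
  exact h.symm

theorem rp_zero {f : Equiv.Perm (R K V)} (hf : f ∈ RP K V) : f 0 = 0 := by
  have h := hf.1 0 0
  rw [add_zero] at h
  exact left_eq_add.1 h

/-- the ring endomorphism of the quaternions -/
noncomputable def hmq (e : ℍ[K] ≃ₐ[K] R K V) (f : Equiv.Perm (R K V)) (hf : f ∈ RP K V) : ℍ[K] →+* ℍ[K] where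
  toFun z := e.symm (f (e z))
  map_one' := by rw [map_one, rp_one hf, map_one]
  map_mul' a b := by rw [map_mul, hf.2, map_mul]
  map_zero' := by rw [map_zero, rp_zero hf, map_zero]
  map_add' a b := by rw [map_add, hf.1, map_add]

theorem hmq_apply (e : ℍ[K] ≃ₐ[K] R K V) (f : Equiv.Perm (R K V)) (hf : f ∈ RP K V) (z : ℍ[K]) :
    hmq e f hf z = e.symm (f (e z)) := rfl

theorem e_hmq (e : ℍ[K] ≃ₐ[K] R K V) (f : Equiv.Perm (R K V)) (hf : f ∈ RP K V) (z : ℍ[K]) :
    e (hmq e f hf z) = f (e z) := by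
  rw [hmq_apply, AlgEquiv.apply_symm_apply]

/-- unit of norm 1 -/
noncomputable def nu (e : ℍ[K] ≃ₐ[K] R K V) (x : ℍ[K]) (h : normSq x = 1) : (R K V)ˣ :=
  ⟨e x, e (star x), by rw [← map_mul, mul_star_one h, map_one], by rw [← map_mul, star_mul_one h, map_one]⟩

theorem nu_val (e : ℍ[K] ≃ₐ[K] R K V) (x : ℍ[K]) (h : normSq x = 1) : ((nu e x h : (R K V)ˣ) : R K V) = e x := rfl

theorem nu_inv (e : ℍ[K] ≃ₐ[K] R K V) (x : ℍ[K]) (h : normSq x = 1) :
    (((nu e x h)⁻¹ : (R K V)ˣ) : R K V) = e (star x) := rfl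

theorem cj_nu (e : ℍ[K] ≃ₐ[K] R K V) (x : ℍ[K]) (h : normSq x = 1) (z : ℍ[K]) :
    cj K V (nu e x h) (e z) = e (x * z * star x) := by
  rw [cj_apply, nu_val, nu_inv, map_mul, map_mul]

theorem cj_nu_inv (e : ℍ[K] ≃ₐ[K] R K V) (x : ℍ[K]) (h : normSq x = 1) (z : ℍ[K]) :
    (cj K V (nu e x h))⁻¹ (e z) = e (star x * z * x) := by
  rw [Equiv.Perm.inv_eq_iff_eq, cj_nu]
  congr 1
  have h1 := mul_star_one h
  calc z = 1 * z * 1 := by rw [one_mul, mul_one]
    _ = x * (star x * z * x) * star x := by rw [← h1]; simp only [mul_assoc]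

theorem Ctx.fr {e : ℍ[K] ≃ₐ[K] R K V} {S : Subgroup (Equiv.Perm (R K V))} (C : Ctx e S) {f : Equiv.Perm (R K V)}
    (hf : f ∈ S) : Fr (hmq e f (C.rp hf)) :=
  ⟨C.q f hf _ (Or.inl rfl), C.q f hf _ (Or.inr (Or.inl rfl)), C.q f hf _ (Or.inr (Or.inr rfl))⟩

theorem Ctx.frC {e : ℍ[K] ≃ₐ[K] R K V} {S : Subgroup (Equiv.Perm (R K V))} (C : Ctx e S) {f : Equiv.Perm (R K V)}
    (hf : f ∈ S) {x : ℍ[K]} (h : normSq x = 1) (hx : cj K V (nu e x h) * f * (cj K V (nu e x h))⁻¹ ∈ S) :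
    FrC (hmq e f (C.rp hf)) x := by
  intro v hv
  have h1 := C.q _ hx v hv
  rw [Equiv.Perm.mul_apply, Equiv.Perm.mul_apply, cj_nu_inv, ← e_hmq e f (C.rp hf), cj_nu,
    AlgEquiv.symm_apply_apply] at h1
  exact h1

/-! ### the determinant -/

theorem det_eq [Module.Finite K V] (hV : Module.finrank K V = 2) (e : ℍ[K] ≃ₐ[K] R K V) (z : ℍ[K]) :
    LinearMap.det (e z) = normSq z := by
  let b : Module.Basis (Fin 2) K V := Module.finBasisOfFinrankEq K V hV
  obtain ⟨M, hM⟩ : ∃ M, M = LinearMap.toMatrix b b (e z) := ⟨_, rfl⟩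
  obtain ⟨N, hN⟩ : ∃ N, N = LinearMap.toMatrix b b (e (star z)) := ⟨_, rfl⟩
  have h1 : M * N = (normSq z) • (1 : Matrix (Fin 2) (Fin 2) K) := by
    rw [hM, hN, ← LinearMap.toMatrix_mul, ← map_mul, self_mul_star]
    have : e ((normSq z : K) : ℍ[K]) = (normSq z) • (1 : R K V) := by
      rw [← Algebra.algebraMap_eq_smul_one, ← e.commutes]
      rfl
    rw [this, map_smul, LinearMap.toMatrix_one]
  have h2 : M + N = (2 * z.re) • (1 : Matrix (Fin 2) (Fin 2) K) := by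
    rw [hM, hN, ← map_add, ← map_add, self_add_star']
    have : e ((2 * z.re : K) : ℍ[K]) = (2 * z.re) • (1 : R K V) := by
      rw [← Algebra.algebraMap_eq_smul_one, ← e.commutes]
      rfl
    rw [this, map_smul, LinearMap.toMatrix_one]
  have hdet : LinearMap.det (e z) = M.det := by
    rw [hM, LinearMap.det_toMatrix]
  rw [hdet]
  have hN' : N = (2 * z.re) • (1 : Matrix (Fin 2) (Fin 2) K) - M := by rw [← h2]; abel
  rw [hN'] at h1
  have c00 := congrFun (congrFun h1 0) 0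
  have c01 := congrFun (congrFun h1 0) 1
  have c10 := congrFun (congrFun h1 1) 0
  have c11 := congrFun (congrFun h1 1) 1
  simp [Matrix.mul_apply, Fin.sum_univ_two, Matrix.one_apply] at c00 c01 c10 c11
  rw [Matrix.det_fin_two]
  by_cases ht : M 0 0 + M 1 1 = 2 * z.re
  · linear_combination c00 + M 0 0 * ht
  · have k01 : M 0 1 = 0 := by
      have : (M 0 0 + M 1 1 - 2 * z.re) * M 0 1 = 0 := by linear_combination -c01
      exact (mul_eq_zero.1 this).resolve_left (sub_ne_zero.2 ht)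
    have k10 : M 1 0 = 0 := by
      have : (M 0 0 + M 1 1 - 2 * z.re) * M 1 0 = 0 := by linear_combination -c10
      exact (mul_eq_zero.1 this).resolve_left (sub_ne_zero.2 ht)
    have kd : M 0 0 = M 1 1 := by
      have : (M 0 0 + M 1 1 - 2 * z.re) * (M 0 0 - M 1 1) = 0 := by
        rw [k01, k10] at c00 c11
        linear_combination -c00 + c11
      exact sub_eq_zero.1 ((mul_eq_zero.1 this).resolve_left (sub_ne_zero.2 ht))
    have hMs : M = (M 0 0) • (1 : Matrix (Fin 2) (Fin 2) K) := by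
      ext i j
      fin_cases i <;> fin_cases j <;> simp [k01, k10, kd]
    have hez : e z = (M 0 0) • (1 : R K V) := by
      apply (LinearMap.toMatrix b b).injective
      rw [← hM, map_smul, LinearMap.toMatrix_one]
      exact hMs
    have hz : z = ((M 0 0 : K) : ℍ[K]) := by
      apply e.injective
      rw [hez, ← Algebra.algebraMap_eq_smul_one, ← e.commutes]
      rfl
    have h3 : normSq z = M 0 0 ^ 2 := by
      conv_lhs => rw [hz]
      rw [ns_eq]
      simp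
    rw [h3, k01, ← kd]
    ring


/-! ### non-prime fields -/

theorem five_big [Module.Finite K V] (hV : Module.finrank K V = 2) (p : ℕ) [Fact p.Prime] [CharP K p]
    {e : ℍ[K] ≃ₐ[K] R K V} {S : Subgroup (Equiv.Perm (R K V))} (C : Ctx e S)
    (h2 : (2 : K) ≠ 0) {γ : K} (hγ : γ ∉ PF (K := K) p) (hgen : ∀ a : K, a ≠ 0 → ∃ n : ℕ, a = γ ^ n) : Five S := by
  obtain ⟨x, hx, hr⟩ := rigid_big h2 hγ hgen
  refine ⟨fun m => nu e (x m) (hx m), fun m => ?_, fun f hf hc => ?_⟩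
  · rw [nu_val, det_eq hV, hx m]
  · have h := hr (hmq e f (C.rp hf)) (C.fr hf) fun m => C.frC hf (hx m) (hc m)
    apply Equiv.ext
    intro X
    obtain ⟨z, rfl⟩ := e.surjective X
    rw [← e_hmq e f (C.rp hf), h]
    rfl

/-! ### prime fields -/

section Prime

theorem IsQ.mul_eq {z : ℍ[K]} (h : IsQ z) : z.imJ * z.imK = 0 := by
  obtain ⟨h0, ⟨h1, h2, h3⟩ | ⟨h1, h2, h3⟩ | ⟨h1, h2, h3⟩⟩ := h
  · rw [h2, zero_mul]
  · rw [h3, mul_zero]
  · rw [h2, zero_mul]

/-- `x = (1 + 2i + 2j)/3` -/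
def xr (r : K) : ℍ[K] := q4 r (2 * r) (2 * r) 0

/-- `y = (1 + 2j + 2k)/3` -/
def yr (r : K) : ℍ[K] := q4 r 0 (2 * r) (2 * r)

theorem xr_ns {r : K} (hr : 3 * r = 1) : normSq (xr r) = 1 := by
  rw [ns_eq]
  simp only [xr, q4_re, q4_imI, q4_imJ, q4_imK]
  linear_combination (3 * r + 1) * hr

theorem yr_ns {r : K} (hr : 3 * r = 1) : normSq (yr r) = 1 := by
  rw [ns_eq]
  simp only [yr, q4_re, q4_imI, q4_imJ, q4_imK]
  linear_combination (3 * r + 1) * hr

theorem qI_ns : normSq (qI : ℍ[K]) = 1 := by rw [ns_eq]; simp [qI]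
theorem qK_ns : normSq (qK : ℍ[K]) = 1 := by rw [ns_eq]; simp [qK]

theorem ns_mul {x t : ℍ[K]} (hx : normSq x = 1) (ht : normSq t = 1) : normSq (x * t) = 1 := by
  rw [map_mul, hx, ht, mul_one]

/-- two conjugates -/
theorem Ctx.mt {e : ℍ[K] ≃ₐ[K] R K V} {S : Subgroup (Equiv.Perm (R K V))} (C : Ctx e S) {f : Equiv.Perm (R K V)}
    (hf : f ∈ S) {x t : ℍ[K]} (hx : normSq x = 1) (ht : normSq t = 1)
    (h1 : cj K V (nu e x hx) * f * (cj K V (nu e x hx))⁻¹ ∈ S)
    (h2 : cj K V (nu e (x * t) (ns_mul hx ht)) * f * (cj K V (nu e (x * t) (ns_mul hx ht)))⁻¹ ∈ S) :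
    IsQ (x * t * hmq e f (C.rp hf) (star t) * star x * qI * (x * hmq e f (C.rp hf) t * star t * star x)) := by
  have h3 := S.mul_mem h2 (S.inv_mem h1)
  have h4 := C.q _ h3 qI (Or.inl rfl)
  have e1 : (cj K V (nu e (x * t) (ns_mul hx ht)) * f * (cj K V (nu e (x * t) (ns_mul hx ht)))⁻¹ *
      (cj K V (nu e x hx) * f * (cj K V (nu e x hx))⁻¹)⁻¹) (e qI) =
      e (x * t * hmq e f (C.rp hf) (star t) * star x * qI * (x * hmq e f (C.rp hf) t * star t * star x)) := by
    rw [mul_inv_rev, mul_inv_rev, inv_inv]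
    simp only [Equiv.Perm.mul_apply]
    rw [cj_nu_inv]
    obtain ⟨w, hw⟩ : ∃ w, e w = f⁻¹ (e (star x * qI * x)) := ⟨e.symm _, AlgEquiv.apply_symm_apply _ _⟩
    have hw' : hmq e f (C.rp hf) w = star x * qI * x := by
      apply e.injective
      rw [e_hmq, hw]
      exact Equiv.apply_symm_apply f _
    rw [← hw, cj_nu, cj_nu_inv, ← e_hmq e f (C.rp hf), cj_nu]
    congr 1
    have e2 : star (x * t) * (x * w * star x) * (x * t) = star t * w * t := by
      rw [star_mul]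
      calc star t * star x * (x * w * star x) * (x * t) = star t * (star x * x) * w * (star x * x) * t := by
            simp only [mul_assoc]
        _ = _ := by rw [star_mul_one hx, mul_one, mul_one]
    rw [e2, map_mul, map_mul, hw', star_mul]
    simp only [mul_assoc]
  rw [e1, AlgEquiv.symm_apply_apply] at h4
  exact h4


theorem star_q (s a b : K) : -(q4 0 s a b : ℍ[K]) = star (q4 0 s a b) := by
  ext <;> simp

theorem sq_cases {a : K} (h : a ^ 2 = 1) : a = 1 ∨ a = -1 := by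
  have h1 : (a - 1) * (a + 1) = 0 := by linear_combination h
  rcases mul_eq_zero.1 h1 with h2 | h2
  · exact Or.inl (sub_eq_zero.1 h2)
  · exact Or.inr (eq_neg_of_add_eq_zero_left h2)

theorem five_prime [Module.Finite K V] (hV : Module.finrank K V = 2) (p : ℕ) [Fact p.Prime] [CharP K p]
    {e : ℍ[K] ≃ₐ[K] R K V} {S : Subgroup (Equiv.Perm (R K V))} (C : Ctx e S)
    (h2 : (2 : K) ≠ 0) (h3 : (3 : K) ≠ 0) (hP : ∀ a : K, a ∈ PF (K := K) p) : Five S := by
  obtain ⟨r, hr⟩ : ∃ r : K, 3 * r = 1 := ⟨3⁻¹, mul_inv_cancel₀ h3⟩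
  have hr0 : r ≠ 0 := by
    rintro rfl
    rw [mul_zero] at hr
    exact zero_ne_one hr
  have h8 : (8 : K) ≠ 0 := by
    have : (8 : K) = 2 ^ 3 := by norm_num
    rw [this]
    exact pow_ne_zero _ h2
  have h16 : (16 : K) ≠ 0 := by
    have : (16 : K) = 2 ^ 4 := by norm_num
    rw [this]
    exact pow_ne_zero _ h2
  have h64 : (64 : K) ≠ 0 := by
    have : (64 : K) = 2 ^ 6 := by norm_num
    rw [this]
    exact pow_ne_zero _ h2
  have hxn := xr_ns hr
  have hyn := yr_ns hr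
  have hn : ∀ m : Fin 4, normSq ((![xr r, xr r * qK, yr r, yr r * qI] : Fin 4 → ℍ[K]) m) = 1 := by
    intro m
    fin_cases m
    · exact hxn
    · exact ns_mul hxn qK_ns
    · exact hyn
    · exact ns_mul hyn qI_ns
  refine ⟨fun m => nu e _ (hn m), fun m => ?_, fun f hf hc => ?_⟩
  · rw [nu_val, det_eq hV, hn m]
  have c0 : cj K V (nu e (xr r) hxn) * f * (cj K V (nu e (xr r) hxn))⁻¹ ∈ S := hc 0
  have c1 : cj K V (nu e (xr r * qK) (ns_mul hxn qK_ns)) * f * (cj K V (nu e (xr r * qK) (ns_mul hxn qK_ns)))⁻¹ ∈ S := hc 1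
  have c2 : cj K V (nu e (yr r) hyn) * f * (cj K V (nu e (yr r) hyn))⁻¹ ∈ S := hc 2
  have c3 : cj K V (nu e (yr r * qI) (ns_mul hyn qI_ns)) * f * (cj K V (nu e (yr r * qI) (ns_mul hyn qI_ns)))⁻¹ ∈ S := hc 3
  have m1 := C.mt hf hxn qK_ns c0 c1
  have m2 := C.mt hf hyn qI_ns c2 c3
  have x0 := C.frC hf hxn c0 qI (Or.inl rfl)
  have y0 := C.frC hf hyn c2 qI (Or.inl rfl)
  have hfr := C.fr hf
  obtain ⟨F, hF⟩ : ∃ F, F = hmq e f (C.rp hf) := ⟨_, rfl⟩
  have heF : ∀ z, e (F z) = f (e z) := by rw [hF]; exact e_hmq e f (C.rp hf)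
  rw [← hF] at m1 m2 x0 y0 hfr
  have starK : F (star qK) = -F qK := by
    have : star (qK : ℍ[K]) = -qK := by ext <;> simp [qK]
    rw [this, map_neg]
  have starI : F (star qI) = -F qI := by
    have : star (qI : ℍ[K]) = -qI := by ext <;> simp [qI]
    rw [this, map_neg]
  rw [starK] at m1
  rw [starI] at m2
  -- the image of `k`
  have hK : ∃ s : K, s ^ 2 = 1 ∧ F qK = q4 0 0 0 s := by
    obtain ⟨g0, ⟨g1, g2, g3⟩ | ⟨g1, g2, g3⟩ | ⟨g1, g2, g3⟩⟩ := hfr.k
    · exfalso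
      obtain ⟨s, hs⟩ : ∃ s, s = (F qK).imI := ⟨_, rfl⟩
      have e0 : F qK = q4 0 s 0 0 := by ext <;> simp [g0, g2, g3, hs]
      rw [← hs] at g1
      rw [e0, star_q] at m1
      have h := m1.mul_eq
      have k1 : (xr r * qK * star (q4 0 s 0 0) * star (xr r) * qI * (xr r * q4 0 s 0 0 * star qK * star (xr r))).imJ =
          16 * r ^ 4 := by
        simp [xr, qI, qK]
        linear_combination (16 * r ^ 4) * g1
      have k2 : (xr r * qK * star (q4 0 s 0 0) * star (xr r) * qI * (xr r * q4 0 s 0 0 * star qK * star (xr r))).imK =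
          64 * r ^ 4 := by
        simp [xr, qI, qK]
        linear_combination (64 * r ^ 4) * g1
      rw [k1, k2] at h
      exact mul_ne_zero (mul_ne_zero h16 (pow_ne_zero 4 hr0)) (mul_ne_zero h64 (pow_ne_zero 4 hr0)) h
    · exfalso
      obtain ⟨s, hs⟩ : ∃ s, s = (F qK).imJ := ⟨_, rfl⟩
      have e0 : F qK = q4 0 0 s 0 := by ext <;> simp [g0, g1, g3, hs]
      rw [← hs] at g2
      rw [e0, star_q] at m1
      have h := m1.mul_eq
      have k1 : (xr r * qK * star (q4 0 0 s 0) * star (xr r) * qI * (xr r * q4 0 0 s 0 * star qK * star (xr r))).imJ =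
          16 * r ^ 4 := by
        simp [xr, qI, qK]
        linear_combination (16 * r ^ 4) * g2
      have k2 : (xr r * qK * star (q4 0 0 s 0) * star (xr r) * qI * (xr r * q4 0 0 s 0 * star qK * star (xr r))).imK =
          -8 * r ^ 4 := by
        simp [xr, qI, qK]
        linear_combination (-8 * r ^ 4) * g2
      rw [k1, k2] at h
      exact mul_ne_zero (mul_ne_zero h16 (pow_ne_zero 4 hr0)) (mul_ne_zero (neg_ne_zero.2 h8) (pow_ne_zero 4 hr0)) h
    · exact ⟨(F qK).imK, g3, by ext <;> simp [g0, g1, g2]⟩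
  -- the image of `i`
  have hI : ∃ s : K, s ^ 2 = 1 ∧ F qI = q4 0 s 0 0 := by
    obtain ⟨g0, ⟨g1, g2, g3⟩ | ⟨g1, g2, g3⟩ | ⟨g1, g2, g3⟩⟩ := hfr.i
    · exact ⟨(F qI).imI, g1, by ext <;> simp [g0, g2, g3]⟩
    · exfalso
      obtain ⟨s, hs⟩ : ∃ s, s = (F qI).imJ := ⟨_, rfl⟩
      have e0 : F qI = q4 0 0 s 0 := by ext <;> simp [g0, g1, g3, hs]
      rw [← hs] at g2
      rw [e0, star_q] at m2
      have h := m2.mul_eq
      have k1 : (yr r * qI * star (q4 0 0 s 0) * star (yr r) * qI * (yr r * q4 0 0 s 0 * star qI * star (yr r))).imJ =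
          64 * r ^ 4 := by
        simp [yr, qI]
        linear_combination (64 * r ^ 4) * g2
      have k2 : (yr r * qI * star (q4 0 0 s 0) * star (yr r) * qI * (yr r * q4 0 0 s 0 * star qI * star (yr r))).imK =
          8 * r ^ 4 := by
        simp [yr, qI]
        linear_combination (8 * r ^ 4) * g2
      rw [k1, k2] at h
      exact mul_ne_zero (mul_ne_zero h64 (pow_ne_zero 4 hr0)) (mul_ne_zero h8 (pow_ne_zero 4 hr0)) h
    · exfalso
      obtain ⟨s, hs⟩ : ∃ s, s = (F qI).imK := ⟨_, rfl⟩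
      have e0 : F qI = q4 0 0 0 s := by ext <;> simp [g0, g1, g2, hs]
      rw [← hs] at g3
      rw [e0, star_q] at m2
      have h := m2.mul_eq
      have k1 : (yr r * qI * star (q4 0 0 0 s) * star (yr r) * qI * (yr r * q4 0 0 0 s * star qI * star (yr r))).imJ =
          -8 * r ^ 4 := by
        simp [yr, qI]
        linear_combination (-8 * r ^ 4) * g3
      have k2 : (yr r * qI * star (q4 0 0 0 s) * star (yr r) * qI * (yr r * q4 0 0 0 s * star qI * star (yr r))).imK =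
          -64 * r ^ 4 := by
        simp [yr, qI]
        linear_combination (-64 * r ^ 4) * g3
      rw [k1, k2] at h
      exact mul_ne_zero (mul_ne_zero (neg_ne_zero.2 h8) (pow_ne_zero 4 hr0))
        (mul_ne_zero (neg_ne_zero.2 h64) (pow_ne_zero 4 hr0)) h
  obtain ⟨s, hs, hFK⟩ := hK
  obtain ⟨t, ht, hFI⟩ := hI
  have hFJ : F qJ = q4 0 0 (s * t) 0 := by
    have e0 : (qJ : ℍ[K]) = qK * qI := by ext <;> simp [qI, qJ, qK]
    rw [e0, map_mul, hFK, hFI]
    ext <;> simp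
  have hFz : ∀ z : ℍ[K], F z = q4 z.re (t * z.imI) (s * t * z.imJ) (s * z.imK) := by
    intro z
    obtain ⟨a, b, c, d, hz⟩ := exists_int (p := p) (z := z) ⟨hP _, hP _, hP _, hP _⟩
    have e0 : F z = (a : ℍ[K]) + (b : ℍ[K]) * q4 0 t 0 0 + (c : ℍ[K]) * q4 0 0 (s * t) 0 + (d : ℍ[K]) * q4 0 0 0 s := by
      rw [hz]
      simp only [map_add, map_mul, map_intCast, hFI, hFJ, hFK]
    rw [e0, hz]
    ext <;> simp [qI, qJ, qK] <;> ring
  rw [hFz] at x0 y0
  have hx0 := x0.mul_eq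
  have hy0 := y0.mul_eq
  have kx1 : (xr r * q4 (star (xr r) * qI * xr r).re (t * (star (xr r) * qI * xr r).imI)
      (s * t * (star (xr r) * qI * xr r).imJ) (s * (star (xr r) * qI * xr r).imK) * star (xr r)).imJ =
      (8 * t + 8 * s * t - 16 * s) * r ^ 4 := by
    simp [xr, qI]
    ring
  have kx2 : (xr r * q4 (star (xr r) * qI * xr r).re (t * (star (xr r) * qI * xr r).imI)
      (s * t * (star (xr r) * qI * xr r).imJ) (s * (star (xr r) * qI * xr r).imK) * star (xr r)).imK =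
      (-4 * t + 32 * s * t - 28 * s) * r ^ 4 := by
    simp [xr, qI]
    ring
  have ky1 : (yr r * q4 (star (yr r) * qI * yr r).re (t * (star (yr r) * qI * yr r).imI)
      (s * t * (star (yr r) * qI * yr r).imJ) (s * (star (yr r) * qI * yr r).imK) * star (yr r)).imJ =
      (-28 * t - 4 * s * t + 32 * s) * r ^ 4 := by
    simp [yr, qI]
    ring
  have ky2 : (yr r * q4 (star (yr r) * qI * yr r).re (t * (star (yr r) * qI * yr r).imI)
      (s * t * (star (yr r) * qI * yr r).imJ) (s * (star (yr r) * qI * yr r).imK) * star (yr r)).imK =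
      (28 * t - 32 * s * t + 4 * s) * r ^ 4 := by
    simp [yr, qI]
    ring
  rw [kx1, kx2] at hx0
  rw [ky1, ky2] at hy0
  clear kx1 kx2 ky1 ky2 x0 y0
  have hr4 : r ^ 4 ≠ 0 := pow_ne_zero 4 hr0
  rcases sq_cases hs with rfl | rfl <;> rcases sq_cases ht with rfl | rfl
  · apply Equiv.ext
    intro X
    obtain ⟨z, rfl⟩ := e.surjective X
    rw [← heF, hFz]
    change e _ = e z
    congr 1
    ext <;> simp
  · exfalso
    apply mul_ne_zero (mul_ne_zero h64 hr4) (mul_ne_zero h8 hr4)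
    linear_combination hy0
  · exfalso
    apply mul_ne_zero (mul_ne_zero h16 hr4) (mul_ne_zero (neg_ne_zero.2 h8) hr4)
    linear_combination hx0
  · exfalso
    apply mul_ne_zero (mul_ne_zero h16 hr4) (mul_ne_zero h64 hr4)
    linear_combination hx0

end Prime

end Cfsg.Agent.H173.FC
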